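import Cfsg.Agent.H613.KKL.Defs
import Cfsg.Agent.CTwoTab.Fi22
import Cfsg.Agent.CTwoTab.Fi23Fin
import Cfsg.Agent.CTwoTab.FiTF

/-!
# S4546: the rows `Fi22`, `Fi23`, `Fi24'` (helper842)

* `noCfg_of` : a group with a class of transpositions `T` such that the centralizer of every involution has a normal
  2-subgroup which meets `T`;
* `E_Fi22`, `E_Fi23`, `E_Fi24`.
-/

set_option autoImplicit false
set_option maxRecDepth 100000

namespace Cfsg.Agent.H842.KKL

open Subgroup Cfsg Cfsg.Agent.H613.KKL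

section Abs

variable {S : Type*} [Group S]

/-- transport of configurations -/
theorem cfg_map {S' : Type*} [Group S'] (e : S ≃* S') {D : Subgroup S} {x : S} (h : Cfg0 D x) :
    Cfg0 (D.map e.toMonoidHom) (e x) := by
  have hm : ∀ {K : Subgroup S} {s : S'}, s ∈ K.map e.toMonoidHom ↔ e.symm s ∈ K := by
    intro K s
    rw [Subgroup.mem_map_equiv]
  have hp : ∀ {Q : Subgroup S'}, IsPGroup 2 ↥Q → IsPGroup 2 ↥(Q.map e.symm.toMonoidHom) := fun h => h.map _
  have hsm : ∀ {Q : Subgroup S'} {s : S}, s ∈ Q.map e.symm.toMonoidHom ↔ e s ∈ Q := by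
    intro Q s
    rw [Subgroup.mem_map_equiv]
    rfl
  constructor
  · constructor
    · rw [Subgroup.card_map_of_injective e.injective, h.e8.card]
    · intro d hd
      have h1 := h.e8.inv _ (hm.1 hd)
      rw [← map_mul] at h1
      exact e.symm.injective (by rw [h1, map_one])
  · have : orderOf (e x) = orderOf x := orderOf_injective e.toMonoidHom e.injective x
    rw [this]
    exact h.odd
  · intro d hd
    have h1 := h.comm _ (hm.1 hd)
    have h2 := congrArg e h1
    simpa using h2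
  · intro Q hQ hc
    obtain ⟨c, h1, h2⟩ := h.syl _ (hp hQ) (by
      intro q hq
      have h3 := hc _ (hsm.1 hq)
      rw [← map_mul, ← map_mul] at h3
      exact e.injective h3)
    refine ⟨e c, by rw [← map_mul, h1, map_mul], ?_⟩
    intro q hq
    rw [hm]
    have h3 := h2 (e.symm q) (by rw [hsm, e.apply_symm_apply]; exact hq)
    simpa using h3
  · obtain ⟨y, h1⟩ := h.seven
    refine ⟨e y, ?_, ?_, ?_⟩
    · intro d
      rw [hm, hm, ← h1.norm (e.symm d)]
      simp
    · obtain ⟨m, h2⟩ := h1.seven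
      exact ⟨m, by rw [← h2]; exact orderOf_injective e.toMonoidHom e.injective y⟩
    · intro a ha a1 b hb b1
      obtain ⟨k, hk⟩ := h1.trans _ (hm.1 ha) (fun h2 => a1 (e.symm.injective (by rw [h2, map_one]))) _ (hm.1 hb)
        (fun h2 => b1 (e.symm.injective (by rw [h2, map_one])))
      refine ⟨k, ?_⟩
      have h2 := congrArg e hk
      simpa using h2
  · intro R hR N hN hNR hn
    have h1 := h.rad (R.map e.symm.toMonoidHom) (by
      intro r hr
      have h2 := hm.1 (hR (hsm.1 hr))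
      rwa [e.symm_apply_apply] at h2) (N.map e.symm.toMonoidHom) (hp hN) (by
      intro n hn2
      rw [mem_centralizer_iff]
      intro r hr
      have h2 := (mem_centralizer_iff.1 (hNR (hsm.1 hn2))) _ (hsm.1 hr)
      rw [← map_mul, ← map_mul] at h2
      exact e.injective h2) (by
      intro c hc n hn2
      rw [hsm]
      have h2 := hn (e c) (by
        rw [mem_centralizer_iff]
        intro r hr
        have h3 := (mem_centralizer_iff.1 hc) (e.symm r) (by
          have : e.symm r ∈ R.map e.symm.toMonoidHom := ⟨r, hr, rfl⟩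
          exact this)
        have h4 := congrArg e h3
        simpa using h4) (e n) (hsm.1 hn2)
      simpa using h2)
    intro n hn2
    rw [hm]
    exact h1 ⟨n, hn2, rfl⟩

theorem noCfg_congr {S' : Type*} [Group S'] (e : S ≃* S') (h : NoCfg S') : NoCfg S :=
  fun D x hc => h _ _ (cfg_map e hc)

/-- the centralizer of `z` has a normal 2-subgroup which meets `T` -/
def QQ (T : Set S) (z : S) : Prop := ∃ t ∈ T, ∃ N : Subgroup S, t ∈ N ∧ IsPGroup 2 ↥N ∧
  N ≤ centralizer ({z} : Set S) ∧ ∀ c ∈ centralizer ({z} : Set S), ∀ n ∈ N, c * n * c⁻¹ ∈ N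

theorem mem_cent_conj {z g c : S} : c ∈ centralizer ({g * z * g⁻¹} : Set S) ↔
    g⁻¹ * c * g ∈ centralizer ({z} : Set S) := by
  rw [mem_centralizer_singleton_iff, mem_centralizer_singleton_iff]
  constructor
  · intro h
    calc g⁻¹ * c * g * z = g⁻¹ * (c * (g * z * g⁻¹)) * g := by group
      _ = g⁻¹ * (g * z * g⁻¹ * c) * g := by rw [h]
      _ = z * (g⁻¹ * c * g) := by group
  · intro h
    calc c * (g * z * g⁻¹) = g * (g⁻¹ * c * g * z) * g⁻¹ := by group
      _ = g * (z * (g⁻¹ * c * g)) * g⁻¹ := by rw [h]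
      _ = g * z * g⁻¹ * c := by group

theorem QQ.conj {T : Set S} (hT : ∀ g : S, ∀ t ∈ T, g * t * g⁻¹ ∈ T) {z : S} (h : QQ T z) (g : S) :
    QQ T (g * z * g⁻¹) := by
  obtain ⟨t, ht, N, h1, h2, h3, h4⟩ := h
  have hm : ∀ n : S, n ∈ N.map (MulAut.conj g).toMonoidHom ↔ g⁻¹ * n * g ∈ N := by
    intro n
    rw [Subgroup.mem_map_equiv]
    rfl
  refine ⟨g * t * g⁻¹, hT g t ht, N.map (MulAut.conj g).toMonoidHom, ⟨t, h1, rfl⟩, h2.map _, ?_, ?_⟩
  · intro n hn
    rw [mem_cent_conj]
    exact h3 ((hm n).1 hn)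
  · intro c hc n hn
    rw [hm] at hn ⊢
    have h5 := h4 _ (mem_cent_conj.1 hc) _ hn
    have h6 : g⁻¹ * c * g * (g⁻¹ * n * g) * (g⁻¹ * c * g)⁻¹ = g⁻¹ * (c * n * c⁻¹) * g := by group
    rwa [h6] at h5

/-- a set of commuting involutions permuted by the centralizer of `z` -/
theorem QQ.of_set {T s : Set S} {z t : S} (ht : t ∈ T) (hts : t ∈ s) (hsq : ∀ x ∈ s, x * x = 1)
    (hcomm : ∀ x ∈ s, ∀ y ∈ s, x * y = y * x) (hz : ∀ x ∈ s, x * z = z * x)
    (hn : ∀ c : S, c * z = z * c → ∀ x ∈ s, c * x * c⁻¹ ∈ s) : QQ T z := by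
  have hcc : ∀ x ∈ closure s, ∀ y ∈ closure s, x * y = y * x := by
    have h1 : closure s ≤ centralizer (closure s : Set S) := by
      rw [closure_le]
      intro x hx
      have h2 : closure s ≤ centralizer ({x} : Set S) := by
        rw [closure_le]
        intro y hy
        exact mem_centralizer_singleton_iff.2 (hcomm y hy x hx)
      show x ∈ centralizer (closure s : Set S)
      rw [mem_centralizer_iff]
      intro y hy
      exact mem_centralizer_singleton_iff.1 (h2 hy)
    intro x hx y hy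
    exact ((mem_centralizer_iff.1 (h1 hx)) y hy).symm
  have hsq' : ∀ x ∈ closure s, x * x = 1 := by
    intro x hx
    induction hx using closure_induction with
    | mem x hx => exact hsq x hx
    | one => exact one_mul 1
    | mul x y hx hy h1 h2 =>
      calc x * y * (x * y) = x * (y * x) * y := by group
        _ = x * (x * y) * y := by rw [hcc y hy x hx]
        _ = (x * x) * (y * y) := by group
        _ = 1 := by rw [h1, h2, one_mul]
    | inv x hx h1 => rw [← mul_inv_rev, h1, inv_one]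
  refine ⟨t, ht, closure s, subset_closure hts, ?_, ?_, ?_⟩
  · intro x
    refine ⟨1, ?_⟩
    rw [pow_one, pow_two]
    exact Subtype.ext (hsq' x x.2)
  · rw [closure_le]
    intro x hx
    exact mem_centralizer_singleton_iff.2 (hz x hx)
  · intro c hc n hn'
    induction hn' using closure_induction with
    | mem x hx => exact subset_closure (hn c (mem_centralizer_singleton_iff.1 hc) x hx)
    | one => simp
    | mul x y hx hy h1 h2 =>
      have : c * (x * y) * c⁻¹ = (c * x * c⁻¹) * (c * y * c⁻¹) := by group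
      rw [this]
      exact mul_mem h1 h2
    | inv x hx h1 =>
      have : c * x⁻¹ * c⁻¹ = (c * x * c⁻¹)⁻¹ := by group
      rw [this]
      exact inv_mem h1

section E8

variable {D : Subgroup S} {x : S}

theorem e8_comm (h : E8 D) {a b : S} (ha : a ∈ D) (hb : b ∈ D) : a * b = b * a := by
  have h1 := h.inv _ (mul_mem ha hb)
  have h2 := h.inv a ha
  have h3 := h.inv b hb
  calc a * b = a * (a * b * (a * b)) * b := by rw [h1, mul_one]
    _ = (a * a) * (b * a) * (b * b) := by group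
    _ = b * a := by rw [h2, h3, one_mul, mul_one]

/-- an element outside a small set -/
theorem exists_not_mem (h : E8 D) (s : Finset S) (hs : s.card < 8) : ∃ d ∈ D, d ∉ s := by
  classical
  by_contra hcon
  push Not at hcon
  have hsub : (D : Set S) ⊆ ↑s := fun d hd => hcon d hd
  have hfin : (D : Set S).Finite := s.finite_toSet.subset hsub
  have h1 := Set.ncard_le_ncard hsub s.finite_toSet
  rw [Set.ncard_coe_finset] at h1
  have h2 : (D : Set S).ncard = 8 := by
    rw [← h.card]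
    rfl
  omega

theorem rad_one (h : Cfg0 D x) {z : S} (hz : z ∈ D) {N : Subgroup S} (hN : IsPGroup 2 ↥N)
    (hNz : N ≤ centralizer ({z} : Set S)) (hn : ∀ c ∈ centralizer ({z} : Set S), ∀ n ∈ N, c * n * c⁻¹ ∈ N) :
    N ≤ D := by
  have hc : centralizer ((zpowers z : Subgroup S) : Set S) = centralizer ({z} : Set S) := by
    rw [zpowers_eq_closure, centralizer_closure]
  refine h.rad (zpowers z) (zpowers_le.2 hz) N hN (by rw [hc]; exact hNz) (by rw [hc]; exact hn)

theorem conj_of (h : Cfg0 D x) {T : Set S} (hT : ∀ g : S, ∀ t ∈ T, g * t * g⁻¹ ∈ T) {t u : S} (ht : t ∈ D) (ht1 : t ≠ 1)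
    (htT : t ∈ T) (hu : u ∈ D) (hu1 : u ≠ 1) : u ∈ T := by
  obtain ⟨y, hy⟩ := h.seven
  obtain ⟨k, hk⟩ := hy.trans t ht ht1 u hu hu1
  rw [← hk]
  exact hT _ t htT

end E8

/-- **the criterion** -/
theorem noCfg_of (T : Set S) (hT : ∀ g : S, ∀ t ∈ T, g * t * g⁻¹ ∈ T) (h1 : (1 : S) ∉ T)
    (two : ∀ a ∈ T, ∀ b ∈ T, a ≠ b → a * b = b * a → a * b ∉ T) (h : ∀ z : S, z * z = 1 → z ≠ 1 → QQ T z) :
    NoCfg S := by
  classical
  intro D x hc
  obtain ⟨z, hz, hz1⟩ := exists_not_mem hc.e8 {1} (by simp)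
  rw [Finset.mem_singleton] at hz1
  obtain ⟨t, ht, N, k1, k2, k3, k4⟩ := h z (hc.e8.inv z hz) hz1
  have htD : t ∈ D := rad_one hc hz k2 k3 k4 k1
  have ht1 : t ≠ 1 := fun h0 => h1 (h0 ▸ ht)
  obtain ⟨u, hu, hu1⟩ := exists_not_mem hc.e8 {1, t} (by
    refine lt_of_le_of_lt (Finset.card_insert_le _ _) ?_
    simp)
  rw [Finset.mem_insert, Finset.mem_singleton, not_or] at hu1
  have htu : t * u ≠ 1 := by
    intro h0
    apply hu1.2
    have h2 := hc.e8.inv t htD
    calc u = (t * t) * u := by rw [h2, one_mul]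
      _ = t * (t * u) := by group
      _ = t := by rw [h0, mul_one]
  exact two t ht u (conj_of hc hT htD ht1 ht hu hu1.1) (Ne.symm hu1.2) (e8_comm hc.e8 htD hu)
    (conj_of hc hT htD ht1 ht (mul_mem htD hu) htu)

end Abs

/-! ### `Fi22` -/

section Fi22

open Cfsg.Agent.R01.FiFusion Cfsg.Agent.R01.FiFacts
open Cfsg.Agent.OddHalf.D4.Spor.Fi22 (inv_cases)
open Cfsg.Agent.StdFi22.MainFi22 (bas)
open Cfsg.Agent.R08.AutT (T)

theorem noCfg_fi22 : NoCfg Spor.Fi22 := by
  have := CTwoTab.Fi22.finite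
  have tf := Cfsg.Agent.R08.AutT.tFacts
  refine noCfg_of T tf.conj (fun h => tf.ne _ h rfl) tf.two ?_
  intro z hz hz1
  rcases inv_cases hz hz1 with h | ⟨a, ha, b, hb, hab, cab, rfl⟩ | ⟨a, b, c, h, rfl⟩
  · refine QQ.of_set (s := {z}) h rfl ?_ ?_ ?_ ?_
    · rintro _ rfl
      exact hz
    · rintro _ rfl _ rfl
      rfl
    · rintro _ rfl
      rfl
    · rintro c hc _ rfl
      rw [hc, mul_inv_cancel_right]
      rfl
  · obtain ⟨R, F⟩ := CTwoTab.Fi22.facts ha hb hab cab
    refine ⟨a, ha, R, F.d_mem, F.R_two, ?_, ?_⟩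
    · intro x hx
      obtain ⟨h1, h2⟩ := CTwoTab.Fi22.mem_pair.1 (F.R_le hx)
      exact mem_centralizer_singleton_iff.2 (CTwoTab.Fi22.comm_mul h1 h2)
    · intro c hc r hr
      exact F.R_normal c (mem_centralizer_singleton_iff.1 hc) r hr
  · refine ⟨a, h.mx, CTwoTab.Fi22.ee (a * b * c), CTwoTab.Fi22.mem_a h, ?_, inf_le_right, CTwoTab.Fi22.ee_normal⟩
    intro x
    refine ⟨1, ?_⟩
    rw [pow_one, pow_two]
    exact Subtype.ext (CTwoTab.Fi22.ee_sq h x.2)

/-- **`Fi22`** -/
theorem E_Fi22 {S : Type*} [Group S] (h : Spor.IsoFi22 S) : NoCfg S := by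
  obtain ⟨e⟩ := h
  exact noCfg_congr e noCfg_fi22

end Fi22

/-! ### `Fi23` -/

section Fi23

open Cfsg.Agent.Fischer.Fi23Z Cfsg.Agent.Fischer.Fi23Hom
open Cfsg.Agent.Fischer Cfsg.Agent.Fischer.Fi23Class Cfsg.Agent.Fischer.Fi23Simple
open Cfsg.Agent.KFacts.FiTTh.Cent
open Cfsg.Spor Cfsg.Spor.Fi23
open Cfsg.Agent.CTwoTab Cfsg.Agent.CTwoTab.Fi23

theorem two23 {u : Fi23} (hu : IsConj z0 u) (hc : z0 * u = u * z0) (hne : u ≠ z0) : ¬ IsConj z0 (z0 * u) := by
  have hfin : Finite Fi23 := Nat.finite_of_card_ne_zero (by rw [card_Fi23]; norm_num)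
  obtain ⟨R, hR, hR0⟩ := Fi23Class.exists_rank3 card_le
  have mem : ∀ v : Fi23, IsConj z0 v → ∃ y, R.t y = v := by
    intro v hv
    obtain ⟨g, hg⟩ := isConj_iff.1 hv
    exact ⟨g • R.x0, by rw [R.map_smul, hR, hg]⟩
  obtain ⟨yu, hyu⟩ := mem u hu
  obtain ⟨ya, hya⟩ := mem (gen .a) (isConj_gen card_le .a)
  have key : ∀ {y : Fi23 ⧸ K} {v : Fi23}, R.t y = v → z0 * v = v * z0 → v ≠ z0 →
      ∃ h : Fi23, h • R.x0 = R.x0 ∧ h • R.c = y := by
    intro y v hy hv hvz
    have h1 : R.Com R.x0 y := by rw [R.com_def, hR, hy, hv]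
    rcases R.com_x0_iff.1 h1 with h2 | h2
    · exfalso
      apply hvz
      rw [← hy, h2, hR]
    · exact h2
  obtain ⟨h1, h1x, h1c⟩ := key hyu hc hne
  obtain ⟨h2, h2x, h2c⟩ := key hya (comm_z0 card_le _ (gen_mem_K .a (by decide))).symm (fun h0 => by
    apply z0_ncomm
    rw [← h0]
    exact Fi23Class.gen_comm .a .j (by decide))
  intro h3
  apply not_conj2
  refine h3.trans (isConj_iff.2 ⟨h2 * h1⁻¹, ?_⟩)
  have e1 : (h2 * h1⁻¹) • R.x0 = R.x0 := by
    rw [mul_smul, show h1⁻¹ • R.x0 = R.x0 by rw [inv_smul_eq_iff, h1x], h2x]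
  have e2 : (h2 * h1⁻¹) • yu = ya := by
    rw [← h1c, mul_smul, inv_smul_smul, h2c]
  calc h2 * h1⁻¹ * (z0 * u) * (h2 * h1⁻¹)⁻¹ = (h2 * h1⁻¹ * z0 * (h2 * h1⁻¹)⁻¹) * (h2 * h1⁻¹ * u * (h2 * h1⁻¹)⁻¹) := by
        group
    _ = z0 * gen .a := by
      rw [← hyu, ← hR, ← R.map_smul, ← R.map_smul, e1, e2, hya]

theorem noCfg_fi23 : NoCfg Fi23 := by
  have hfin : Finite Fi23 := Nat.finite_of_card_ne_zero (by rw [card_Fi23]; norm_num)
  have hz00 : z0 * z0 = 1 := z0_sq card_le
  have hz1 : z0 ≠ 1 := by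
    intro h0
    apply z0_ncomm
    rw [h0, one_mul, mul_one]
  have hT : ∀ g : Fi23, ∀ t ∈ {x : Fi23 | IsConj z0 x}, g * t * g⁻¹ ∈ {x : Fi23 | IsConj z0 x} :=
    fun g t ht => IsConj.trans ht (isConj_iff.2 ⟨g, rfl⟩)
  refine noCfg_of {x | IsConj z0 x} hT ?_ ?_ ?_
  · intro h0
    exact hz1 (isConj_one_right.1 (IsConj.symm h0))
  · rintro a ha b hb hab hc h0
    obtain ⟨g, hg⟩ := isConj_iff.1 (show IsConj z0 a from ha)
    have hb' : IsConj z0 (g⁻¹ * b * g) := IsConj.trans hb (isConj_iff.2 ⟨g⁻¹, by group⟩)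
    have hg' : g⁻¹ * a * g = z0 := by rw [← hg]; group
    refine two23 hb' ?_ ?_ ?_
    · rw [← hg']
      calc g⁻¹ * a * g * (g⁻¹ * b * g) = g⁻¹ * (a * b) * g := by group
        _ = g⁻¹ * (b * a) * g := by rw [hc]
        _ = g⁻¹ * b * g * (g⁻¹ * a * g) := by group
    · intro h1
      apply hab
      rw [← hg'] at h1
      have h2 := congrArg (fun x => g * x * g⁻¹) h1
      calc a = g * (g⁻¹ * a * g) * g⁻¹ := by group
        _ = g * (g⁻¹ * b * g) * g⁻¹ := h2.symm
        _ = b := by group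
    · have h1 : IsConj z0 (g⁻¹ * (a * b) * g) := IsConj.trans h0 (isConj_iff.2 ⟨g⁻¹, by group⟩)
      have h2 : z0 * (g⁻¹ * b * g) = g⁻¹ * (a * b) * g := by rw [← hg']; group
      rwa [h2]
  · have q1 : QQ {x : Fi23 | IsConj z0 x} z0 := by
      refine QQ.of_set (s := {z0}) (t := z0) (IsConj.refl z0) rfl ?_ ?_ ?_ ?_
      · rintro _ rfl
        exact hz00
      · rintro _ rfl _ rfl
        rfl
      · rintro _ rfl
        rfl
      · rintro c hc _ rfl
        rw [hc, mul_inv_cancel_right]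
        rfl
    have q2 : QQ {x : Fi23 | IsConj z0 x} W2 := by
      refine QQ.of_set (s := Ds2) (t := z0) (IsConj.refl z0) (Or.inl rfl) ?_ ?_ ?_ ?_
      · rintro _ (rfl | rfl)
        · exact hz00
        · exact aa
      · rintro _ (rfl | rfl) _ (rfl | rfl)
        · rfl
        · exact za.symm
        · exact za
        · rfl
      · intro x hx
        exact (hWD2 x hx).symm
      · intro c hc x hx
        exact perm2 hc hx
    have q3 : QQ {x : Fi23 | IsConj z0 x} W3 := by
      refine QQ.of_set (s := Ds3) (t := z0) (IsConj.refl z0) (Or.inl rfl) ?_ ?_ ?_ ?_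
      · rintro _ (rfl | rfl | rfl)
        · exact hz00
        · exact aa
        · exact cc
      · rintro _ (rfl | rfl | rfl) _ (rfl | rfl | rfl) <;>
          first | rfl | exact za | exact za.symm | exact zc | exact zc.symm | exact ac | exact ac.symm
      · intro x hx
        exact (hWD3 x hx).symm
      · intro c hc x hx
        exact perm3 hac hc hx
    intro t h1 h2
    rcases KFacts.FiTTh.Has.inv t h1 h2 with h | h | h
    · obtain ⟨g, hg⟩ := isConj_iff.1 h.symm
      rw [← hg]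
      exact q1.conj hT g
    · obtain ⟨g, hg⟩ := isConj_iff.1 h.symm
      rw [← hg]
      exact q2.conj hT g
    · obtain ⟨g, hg⟩ := isConj_iff.1 h.symm
      rw [← hg]
      exact q3.conj hT g

/-- **`Fi23`** -/
theorem E_Fi23 {S : Type*} [Group S] (h : Spor.IsoFi23 S) : NoCfg S := by
  obtain ⟨e⟩ := h
  exact noCfg_congr e noCfg_fi23

end Fi23

/-! ### `Fi24'` -/

section Fi24

open Cfsg.Agent.R08.TetBasic Cfsg.Agent.R08.TetTwo

variable {F : Type*} [Group F] {L : Set F}

/-- two equal products of two commuting transpositions with six commuting factors: a common factor -/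
theorem common (hL : Tr L) {a b c d e f : F} (ha : a ∈ L) (hb : b ∈ L) (hc : c ∈ L) (hd : d ∈ L) (he : e ∈ L)
    (hf : f ∈ L) (hab : Commute a b) (hac : Commute a c) (had : Commute a d) (hbc : Commute b c) (hbd : Commute b d)
    (hcd : Commute c d) (hef : Commute e f) (hae : Commute a e) (haf : Commute a f) (hbe : Commute b e)
    (hbf : Commute b f) (hce : Commute c e) (hcf : Commute c f) (hde : Commute d e) (hdf : Commute d f)
    (nab : a ≠ b) (ncd : c ≠ d) (nef : e ≠ f) (h : a * b * (c * d) = e * f) :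
    a = c ∨ a = d ∨ b = c ∨ b = d := by
  by_contra hcon
  push Not at hcon
  obtain ⟨nac, nad, nbc, nbd⟩ := hcon
  have sa := hL.sq a ha
  have sb := hL.sq b hb
  have sc := hL.sq c hc
  have sd := hL.sq d hd
  have se := hL.sq e he
  have sf := hL.sq f hf
  -- no product of three is a transposition
  have tri : ∀ {p q r s : F}, p ∈ L → q ∈ L → r ∈ L → s ∈ L → p ≠ q → p ≠ r → q ≠ r → Commute p q → Commute p r →
      Commute q r → Commute s p → Commute s q → Commute s r → p * q * r ≠ s := by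
    intro p q r s hp hq hr hs npq npr nqr cpq cpr cqr csp csq csr h0
    by_cases e1 : s = p
    · have h1 : q * r = 1 := by
        have : p * (q * r) = p * 1 := by rw [← mul_assoc, h0, e1, mul_one]
        exact mul_left_cancel this
      apply nqr
      calc q = q * r * r := by rw [mul_assoc, hL.sq r hr, mul_one]
        _ = r := by rw [h1, one_mul]
    by_cases e2 : s = q
    · have h1 : p * r = 1 := by
        have h2 : q * (p * r) = q * 1 := by
          calc q * (p * r) = p * q * r := by rw [← mul_assoc, cpq.eq]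
            _ = q * 1 := by rw [h0, e2, mul_one]
        exact mul_left_cancel h2
      apply npr
      calc p = p * r * r := by rw [mul_assoc, hL.sq r hr, mul_one]
        _ = r := by rw [h1, one_mul]
    by_cases e3 : s = r
    · have h1 : p * q = 1 := by
        have : p * q * r = 1 * r := by rw [h0, e3, one_mul]
        exact mul_right_cancel this
      apply npq
      calc p = p * q * q := by rw [mul_assoc, hL.sq q hq, mul_one]
        _ = q := by rw [h1, one_mul]
    refine hL.four p hp q hq r hr s hs npq npr (Ne.symm e1) nqr (Ne.symm e2) (Ne.symm e3) cpq cpr csp.symm cqr csq.symm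
      csr.symm ?_
    calc p * q = p * q * r * r := by rw [mul_assoc (p * q), hL.sq r hr, mul_one]
      _ = s * r := by rw [h0]
      _ = r * s := csr.eq
  have h1 : a * b * c = e * f * d := by
    calc a * b * c = a * b * (c * d) * d := by rw [mul_assoc (a * b), mul_assoc c, sd, mul_one]
      _ = e * f * d := by rw [h]
  have nde : d ≠ e := by
    intro h2
    refine tri (s := f) ha hb hc hf nab nac nbc hab hac hbc haf.symm hbf.symm hcf.symm ?_
    rw [h1, h2, mul_assoc, ← hef.eq, ← mul_assoc, se, one_mul]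
  have ndf : d ≠ f := by
    intro h2
    refine tri (s := e) ha hb hc he nab nac nbc hab hac hbc hae.symm hbe.symm hce.symm ?_
    rw [h1, h2, mul_assoc, sf, mul_one]
  have h2 : a * b * c = d * e * f := by
    rw [h1, mul_assoc d, (hde.mul_right hdf).eq]
  rcases tri_mem hL ha hb hc hd he hf hab hac hbc nab nac nbc hde hdf hef nde ndf nef h2 with h3 | h3 | h3
  · exact nad h3.symm
  · exact nbd h3.symm
  · exact ncd h3.symm

/-- `z` is the product of two commuting transpositions -/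
structure Pair (L : Set F) (z a b : F) : Prop where
  ha : a ∈ L
  hb : b ∈ L
  ab : Commute a b
  ne : a ≠ b
  eq : z = a * b

theorem Pair.symm {z a b : F} (h : Pair L z a b) : Pair L z b a :=
  ⟨h.hb, h.ha, h.ab.symm, h.ne.symm, by rw [h.eq, h.ab.eq]⟩

theorem Pair.unique (hL : Tr L) {z a b c d : F} (h : Pair L z a b) (h' : Pair L z c d) :
    (c = a ∧ d = b) ∨ (c = b ∧ d = a) :=
  pair_unique hL h.ha h.hb h'.ha h'.hb h.ab h.ne h'.ab (by rw [← h.eq, ← h'.eq])

theorem Pair.conj (hL : Tr L) {z a b g : F} (h : Pair L z a b) (hg : Commute g z) :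
    (g * a * g⁻¹ = a ∧ g * b * g⁻¹ = b) ∨ (g * a * g⁻¹ = b ∧ g * b * g⁻¹ = a) := by
  have h1 : Pair L z (g * a * g⁻¹) (g * b * g⁻¹) := by
    refine ⟨hL.conj g a h.ha, hL.conj g b h.hb, ?_, ?_, ?_⟩
    · show g * a * g⁻¹ * (g * b * g⁻¹) = g * b * g⁻¹ * (g * a * g⁻¹)
      calc g * a * g⁻¹ * (g * b * g⁻¹) = g * (a * b) * g⁻¹ := by group
        _ = g * (b * a) * g⁻¹ := by rw [h.ab.eq]
        _ = g * b * g⁻¹ * (g * a * g⁻¹) := by group
    · intro h0
      exact h.ne (mul_left_cancel (mul_right_cancel h0))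
    · calc z = g * z * g⁻¹ := by rw [hg.eq, mul_inv_cancel_right]
        _ = g * (a * b) * g⁻¹ := by rw [← h.eq]
        _ = g * a * g⁻¹ * (g * b * g⁻¹) := by group
  exact h.unique hL h1

theorem comb {α : Type*} {a b d e f : α} (h1 : a ≠ b) (h2 : a ≠ d) (h3 : b ≠ d) (h4 : e ≠ f)
    (h5 : a = e ∨ a = f ∨ b = e ∨ b = f) (h6 : a = e ∨ a = f ∨ d = e ∨ d = f) (h7 : b = e ∨ b = f ∨ d = e ∨ d = f) :
    (e = a ∧ f = b) ∨ (e = b ∧ f = a) ∨ (e = a ∧ f = d) ∨ (e = d ∧ f = a) ∨ (e = b ∧ f = d) ∨ (e = d ∧ f = b) := by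
  grind

/-- an elementary abelian group of order at least eight is not pure of products of two transpositions -/
theorem false_of_pairs (hL : Tr L) {E : Subgroup F} (hE : E8 E)
    (hp : ∀ z ∈ E, z ≠ 1 → ∃ a b, Pair L z a b) : False := by
  classical
  have hcm : ∀ {a b : F}, a ∈ E → b ∈ E → Commute a b := fun ha hb => e8_comm hE ha hb
  have hmul : ∀ {z w : F}, z ∈ E → w ∈ E → z ≠ w → z * w ≠ 1 := by
    intro z w hz hw hne h0
    apply hne
    calc z = z * w * w := by rw [mul_assoc, hE.inv w hw, mul_one]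
      _ = w := by rw [h0, one_mul]
  -- `w` commutes with a factor of `z`: a common factor
  have key : ∀ {z w a b c d : F}, z ∈ E → w ∈ E → z ≠ 1 → w ≠ 1 → z ≠ w → Pair L z a b → Pair L w c d → Commute w a →
      a = c ∨ a = d ∨ b = c ∨ b = d := by
    intro z w a b c d hz hw hz1 hw1 hzw h1 h2 hwa
    obtain ⟨e, f, h3⟩ := hp (z * w) (mul_mem hz hw) (hmul hz hw hzw)
    have hzw' : Commute z w := hcm hz hw
    have hza : Commute z a := by
      rw [h1.eq]
      exact (Commute.refl a).mul_left h1.ab.symm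
    have hwb : Commute w b := by
      have hb : b = a * z := by
        rw [h1.eq, ← mul_assoc, hL.sq a h1.ha, one_mul]
      rw [hb]
      exact hwa.mul_right hzw'.symm
    have hzb : Commute z b := by
      rw [h1.eq]
      exact h1.ab.mul_left (Commute.refl b)
    obtain ⟨ac, ad⟩ := comm_of_comm_mul hL h2.ha h2.hb h1.ha h2.ab h2.ne (by rw [← h2.eq]; exact hwa.symm)
    obtain ⟨bc, bd⟩ := comm_of_comm_mul hL h2.ha h2.hb h1.hb h2.ab h2.ne (by rw [← h2.eq]; exact hwb.symm)
    have hwc : Commute w c := by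
      rw [h2.eq]
      exact (Commute.refl c).mul_left h2.ab.symm
    have hwd : Commute w d := by
      rw [h2.eq]
      exact h2.ab.mul_left (Commute.refl d)
    have hzc : Commute z c := by
      rw [h1.eq]
      exact ac.mul_left bc
    have hzd : Commute z d := by
      rw [h1.eq]
      exact ad.mul_left bd
    obtain ⟨ae, af⟩ := comm_of_comm_mul hL h3.ha h3.hb h1.ha h3.ab h3.ne (by
      rw [← h3.eq]; exact (hza.mul_left hwa).symm)
    obtain ⟨be, bf⟩ := comm_of_comm_mul hL h3.ha h3.hb h1.hb h3.ab h3.ne (by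
      rw [← h3.eq]; exact (hzb.mul_left hwb).symm)
    obtain ⟨ce, cf⟩ := comm_of_comm_mul hL h3.ha h3.hb h2.ha h3.ab h3.ne (by
      rw [← h3.eq]; exact (hzc.mul_left hwc).symm)
    obtain ⟨de, df⟩ := comm_of_comm_mul hL h3.ha h3.hb h2.hb h3.ab h3.ne (by
      rw [← h3.eq]; exact (hzd.mul_left hwd).symm)
    exact common hL h1.ha h1.hb h2.ha h2.hb h3.ha h3.hb h1.ab ac ad bc bd h2.ab h3.ab ae af be bf ce cf de df h1.ne
      h2.ne h3.ne (by rw [← h1.eq, ← h2.eq, h3.eq])
  have l1 : ∀ {z a b v : F}, Pair L z a b → Commute v z → (Commute v a ↔ Commute v b) := by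
    intro z a b v h hv
    constructor
    · intro h1
      have hb : b = a * z := by rw [h.eq, ← mul_assoc, hL.sq a h.ha, one_mul]
      rw [hb]
      exact h1.mul_right hv
    · intro h1
      have ha : a = z * b := by rw [h.eq, mul_assoc, hL.sq b h.hb, mul_one]
      rw [ha]
      exact hv.mul_right h1
  have l2 : ∀ {z w a b c d : F}, z ∈ E → w ∈ E → z ≠ 1 → w ≠ 1 → z ≠ w → Pair L z a b → Pair L w c d → Commute w a →
      ∀ v ∈ E, (Commute v a ↔ Commute v c) := by
    intro z w a b c d hz hw hz1 hw1 hzw h1 h2 hwa v hv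
    have k1 := l1 h1 (hcm hv hz)
    have k2 := l1 h2 (hcm hv hw)
    rcases key hz hw hz1 hw1 hzw h1 h2 hwa with h | h | h | h
    · rw [h]
    · rw [h, k2]
    · rw [k1, h]
    · rw [k1, h, k2]
  -- all elements of `E` commute with all the factors
  have all : ∀ {z u a b : F}, z ∈ E → z ≠ 1 → u ∈ E → Pair L z a b → Commute u a := by
    intro z u a b hz hz1 hu h1
    by_contra hua
    have hu1 : u ≠ 1 := by
      rintro rfl
      exact hua (Commute.one_left a)
    have huz : u ≠ z := by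
      rintro rfl
      apply hua
      rw [h1.eq]
      exact (Commute.refl a).mul_left h1.ab.symm
    obtain ⟨c, d, h2⟩ := hp u hu hu1
    have huc : Commute u c := by
      rw [h2.eq]
      exact (Commute.refl c).mul_left h2.ab.symm
    have hfin : Finite ↥E := Nat.finite_of_card_ne_zero (by rw [hE.card]; norm_num)
    have := Fintype.ofFinite ↥E
    obtain ⟨v, v', hvv, hφ⟩ := Fintype.exists_ne_map_eq_of_card_lt
      (fun v : ↥E => (decide (Commute (v : F) a), decide (Commute (v : F) c))) (by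
        have h8 := hE.card
        rw [Nat.card_eq_fintype_card] at h8
        rw [h8]
        decide)
    simp only [Prod.mk.injEq, decide_eq_decide] at hφ
    have hw : (v : F) * v' ∈ E := mul_mem v.2 v'.2
    have hw1 : (v : F) * v' ≠ 1 := hmul v.2 v'.2 (fun h => hvv (Subtype.ext h))
    have comm : ∀ {t p q : F}, t ∈ E → Pair L t p q → (Commute (v : F) p ↔ Commute (v' : F) p) →
        Commute ((v : F) * v') p := by
      intro t p q ht h hiff
      by_cases hv : Commute (v : F) p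
      · exact hv.mul_left (hiff.1 hv)
      · have hv' : ¬ Commute (v' : F) p := fun h0 => hv (hiff.2 h0)
        have e1 : (v : F) * p * (v : F)⁻¹ = q ∧ (v : F) * q * (v : F)⁻¹ = p := by
          rcases h.conj hL (hcm v.2 ht) with h0 | h0
          · exact absurd (mul_inv_eq_iff_eq_mul.1 h0.1) hv
          · exact h0
        have e2 : (v' : F) * p * (v' : F)⁻¹ = q := by
          rcases h.conj hL (hcm v'.2 ht) with h0 | h0
          · exact absurd (mul_inv_eq_iff_eq_mul.1 h0.1) hv'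
          · exact h0.1
        have e3 : (v : F) * v' * p * ((v : F) * v')⁻¹ = p := by
          calc (v : F) * v' * p * ((v : F) * v')⁻¹ = v * (v' * p * (v' : F)⁻¹) * (v : F)⁻¹ := by group
            _ = p := by rw [e2, e1.2]
        exact mul_inv_eq_iff_eq_mul.1 e3
    have wa := comm hz h1 hφ.1
    have wc := comm hu h2 hφ.2
    by_cases e1 : (v : F) * v' = z
    · rw [e1] at wc
      exact hua ((l2 hu hz hu1 hz1 huz h2 h1 wc u hu).1 huc)
    by_cases e2 : (v : F) * v' = u
    · rw [e2] at wa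
      exact hua wa
    obtain ⟨e, f, h3⟩ := hp _ hw hw1
    exact hua ((l2 hz hw hz1 hw1 (Ne.symm e1) h1 h3 wa u hu).2 ((l2 hu hw hu1 hw1 (Ne.symm e2) h2 h3 wc u hu).1 huc))
  -- three independent elements
  obtain ⟨z₁, hz₁, n1⟩ := exists_not_mem hE {1} (by simp)
  rw [Finset.mem_singleton] at n1
  obtain ⟨z₂, hz₂, n2⟩ := exists_not_mem hE {1, z₁} (by
    refine lt_of_le_of_lt (Finset.card_le_two) ?_
    norm_num)
  rw [Finset.mem_insert, Finset.mem_singleton, not_or] at n2
  obtain ⟨z₃, hz₃, n3⟩ := exists_not_mem hE {1, z₁, z₂, z₁ * z₂} (by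
    refine lt_of_le_of_lt (Finset.card_le_four) ?_
    norm_num)
  simp only [Finset.mem_insert, Finset.mem_singleton, not_or] at n3
  obtain ⟨a, b, hab⟩ := hp z₁ hz₁ n1
  obtain ⟨c, d, hcd⟩ := hp z₂ hz₂ n2.1
  obtain ⟨e, f, hef⟩ := hp z₃ hz₃ n3.1
  -- the two pairs `a, b` and `a, d`
  have main : ∀ {a b d : F}, Pair L z₁ a b → Pair L z₂ a d → False := by
    intro a b d h1 h2
    have had := h2.ab
    have nbd : b ≠ d := by
      rintro rfl
      exact n2.2 (by rw [h1.eq, h2.eq])
    have hbd : Commute b d := (comm_of_comm_mul hL h2.ha h2.hb h1.hb h2.ab h2.ne (by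
      rw [← h2.eq]; exact (all (b := a) hz₁ n1 hz₂ h1.symm).symm)).2
    have h12 : Pair L (z₁ * z₂) b d := by
      refine ⟨h1.hb, h2.hb, hbd, nbd, ?_⟩
      calc z₁ * z₂ = a * b * (a * d) := by rw [← h1.eq, ← h2.eq]
        _ = b * a * (a * d) := by rw [h1.ab.eq]
        _ = b * (a * a) * d := by group
        _ = b * d := by rw [hL.sq a h1.ha, mul_one]
    have hz12 := mul_mem hz₁ hz₂
    have n12 : z₁ * z₂ ≠ 1 := hmul hz₁ hz₂ (Ne.symm n2.2)
    have k1 := key hz₁ hz₃ n1 n3.1 (Ne.symm n3.2.1) h1 hef (all hz₁ n1 hz₃ h1)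
    have k2 := key hz₂ hz₃ n2.1 n3.1 (Ne.symm n3.2.2.1) h2 hef (all hz₂ n2.1 hz₃ h2)
    have k3 := key hz12 hz₃ n12 n3.1 (Ne.symm n3.2.2.2) h12 hef (all hz12 n12 hz₃ h12)
    have e3 := hef.eq
    rcases comb h1.ne h2.ne nbd hef.ne k1 k2 k3 with h | h | h | h | h | h
    · exact n3.2.1 (by rw [e3, h1.eq, h.1, h.2])
    · exact n3.2.1 (by rw [e3, h1.eq, h.1, h.2, h1.ab.eq])
    · exact n3.2.2.1 (by rw [e3, h2.eq, h.1, h.2])
    · exact n3.2.2.1 (by rw [e3, h2.eq, h.1, h.2, h2.ab.eq])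
    · exact n3.2.2.2 (by rw [e3, h12.eq, h.1, h.2])
    · exact n3.2.2.2 (by rw [e3, h12.eq, h.1, h.2, h12.ab.eq])
  rcases key hz₁ hz₂ n1 n2.1 (Ne.symm n2.2) hab hcd (all hz₁ n1 hz₂ hab) with h | h | h | h
  · subst h
    exact main hab hcd
  · subst h
    exact main hab hcd.symm
  · subst h
    exact main hab.symm hcd
  · subst h
    exact main hab.symm hcd.symm

open Cfsg.Spor Cfsg.Agent.R01 Cfsg.Agent.R08 Cfsg.Agent.R08.FiTwentyFour
open Cfsg.Agent.CTwoTab Cfsg.Agent.CTwoTab.FiTF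

theorem noCfg_fi24 : NoCfg Spor.Fi24' := by
  classical
  intro D x hc
  have h2 : ∀ z ∈ D, z ≠ 1 → orderOf z = 2 := by
    intro z hz hz1
    refine orderOf_eq_prime ?_ hz1
    rw [pow_two]
    exact hc.e8.inv z hz
  have hpair : ∀ z ∈ D, z ≠ 1 → ∃ a b : Fi24, Pair FiTwentyFour.L (z : Fi24) a b := by
    intro z hz hz1
    rcases classes z (h2 z hz hz1) with ⟨a, b, P, h⟩ | ⟨g, hg⟩
    · exact ⟨a, b, P.ha, P.hb, P.ab, P.ne, h⟩
    · exfalso
      have hN : IsPGroup 2 ↥(R0.map (MulAut.conj g).toMonoidHom) := R0_p.map _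
      have hm : ∀ n : Spor.Fi24', n ∈ R0.map (MulAut.conj g).toMonoidHom ↔ g⁻¹ * n * g ∈ R0 := by
        intro n
        rw [Subgroup.mem_map_equiv]
        rfl
      have h3 := rad_one hc hz hN (by
        intro n hn
        rw [hg, mem_cent_conj]
        exact R0_le ((hm n).1 hn)) (by
        intro c hcc n hn
        rw [hg] at hcc
        rw [hm] at hn ⊢
        have h5 := R0_norm _ (mem_cent_conj.1 hcc) _ hn
        have h6 : g⁻¹ * c * g * (g⁻¹ * n * g) * (g⁻¹ * c * g)⁻¹ = g⁻¹ * (c * n * c⁻¹) * g := by group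
        rwa [h6] at h5)
      have hfin : Finite ↥D := Nat.finite_of_card_ne_zero (by rw [hc.e8.card]; norm_num)
      have h4 := Nat.card_le_card_of_injective _ (Subgroup.inclusion_injective h3)
      rw [hc.e8.card, card_map_of_injective (MulAut.conj g).injective, R0_card] at h4
      norm_num at h4
  refine false_of_pairs (L := FiTwentyFour.L) KFacts.FiTF.Tet.tr (E := D.map (Subgroup.subtype _)) ⟨?_, ?_⟩ ?_
  · rw [card_map_of_injective (Subgroup.subtype_injective _), hc.e8.card]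
  · rintro _ ⟨d, hd, rfl⟩
    exact congrArg Subtype.val (hc.e8.inv d hd)
  · rintro _ ⟨d, hd, rfl⟩ hd1
    exact hpair d hd (fun h0 => hd1 (by rw [h0]; rfl))

/-- **`Fi24'`** -/
theorem E_Fi24 {S : Type*} [Group S] (h : Spor.IsoFi24' S) : NoCfg S := by
  obtain ⟨e⟩ := h
  exact noCfg_congr e noCfg_fi24

end Fi24

end Cfsg.Agent.H842.KKL
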